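import Groth.Agent.CurvSt.K898.BaseH1
import Groth.Agent.CurvSt.K760.Iface
import Groth.Agent.Models.H74.CohSide
import Groth.Agent.Pi1.H382.Trait
import Groth.Agent.Flat2B.SmoothGeom
import Groth.Agent.Ega43.GeomFibre
import Groth.Agent.S1364
import Groth.Agent.S1335
import Groth.Agent.S0403
import Groth.Agent.S0404

/-!
# A smooth proper family over an irreducible base with one curve of genus `g` is a family of curves of genus `g`
-/

set_option autoImplicit false
universe u

open CategoryTheory CategoryTheory.Limits AlgebraicGeometry Opposite TopologicalSpace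

namespace K603.Fam

open Groth.Agent Groth.Agent.CurvesB Groth.Agent.CurvesB.NodalHOne

section Geometry

variable {C T : Scheme.{u}} (p : C ⟶ T) [Smooth p] [IsProper p] [PreconnectedSpace T]

/-- The dimension of the fibres of a smooth proper morphism to a connected scheme is constant. -/
theorem dim_eq (s t : T) : topologicalKrullDim (p.fiber s) = topologicalKrullDim (p.fiber t) := by
  have key : ∀ c : WithBot ℕ∞, IsClopen {s : T | topologicalKrullDim (p.fiber s) ≤ c} := by
    intro c
    refine ⟨⟨?_⟩, Groth.Agent.S0403.result p c⟩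
    have h : {s : T | topologicalKrullDim (p.fiber s) ≤ c}ᶜ = {s : T | c < topologicalKrullDim (p.fiber s)} := by
      ext x
      simp
    rw [h]
    exact Groth.Agent.S0404.result p c
  have le : ∀ s t : T, topologicalKrullDim (p.fiber s) ≤ topologicalKrullDim (p.fiber t) := by
    intro s t
    have h1 : {s : T | topologicalKrullDim (p.fiber s) ≤ topologicalKrullDim (p.fiber t)} = Set.univ :=
      (isClopen_iff.mp (key _)).resolve_left fun h => by
        have h2 : t ∈ {s : T | topologicalKrullDim (p.fiber s) ≤ topologicalKrullDim (p.fiber t)} :=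
          le_refl (topologicalKrullDim (p.fiber t))
        rw [h] at h2
        exact h2
    have h3 : s ∈ {s : T | topologicalKrullDim (p.fiber s) ≤ topologicalKrullDim (p.fiber t)} := by
      rw [h1]
      trivial
    exact h3
  exact le_antisymm (le s t) (le t s)

omit [IsProper p] [PreconnectedSpace T] in
theorem geometricallyReduced : GeometricallyReduced p :=
  ⟨fun K _ y Z fst snd hZ => by
    have : Smooth snd := MorphismProperty.of_isPullback hZ inferInstance
    exact Groth.Agent.Flat2B.SmoothGeom.isReduced_of_smooth snd⟩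

theorem nGeomConnComp_eq (s t : T) : MoreMor.nGeomConnComp p s = MoreMor.nGeomConnComp p t := by
  have := geometricallyReduced p
  exact (Groth.Agent.S1364.result p).apply_eq_of_isPreconnected
    (PreconnectedSpace.isPreconnected_univ) (Set.mem_univ s) (Set.mem_univ t)

/-- If one fibre is geometrically connected, every base change to a field is connected. -/
theorem connectedSpace (s : T) (hs : MoreMor.nGeomConnComp p s = 1)
    {K : Type u} [Field K] (y : Spec (CommRingCat.of K) ⟶ T) {Z : Scheme.{u}} {a : Z ⟶ C}
    {q : Z ⟶ Spec (CommRingCat.of K)} (h : IsPullback a q p y) : ConnectedSpace Z := by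
  set x : T := y (IsLocalRing.closedPoint K) with hx
  have h1 : GeometricallyConnected (p.fiberToSpecResidueField x) :=
    Groth.Agent.Ega43.GeomFibre.geometricallyConnected_of_nGeomConnComp p x
      ((nGeomConnComp_eq p x s).trans hs)
  let ψ : T.residueField x ⟶ CommRingCat.of K :=
    Scheme.descResidueField (Scheme.stalkClosedPointTo y)
  have hψ : Spec.map ψ ≫ T.fromSpecResidueField x = y :=
    Scheme.descResidueField_stalkClosedPointTo_fromSpecResidueField K _ y
  have hP : IsPullback (p.fiberι x) (p.fiberToSpecResidueField x) p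
      (T.fromSpecResidueField x) := IsPullback.of_hasPullback _ _
  let q' : Z ⟶ p.fiber x := hP.lift a (q ≫ Spec.map ψ)
    (by rw [h.w, Category.assoc, hψ])
  have hq1 : q' ≫ p.fiberι x = a := hP.lift_fst _ _ _
  have hq2 : q' ≫ p.fiberToSpecResidueField x = q ≫ Spec.map ψ := hP.lift_snd _ _ _
  have hq : IsPullback q' q (p.fiberToSpecResidueField x) (Spec.map ψ) := by
    refine IsPullback.of_right (h₁₂ := p.fiberι x) (v₁₃ := p)
      (h₂₂ := T.fromSpecResidueField x) ?_ hq2 hP
    rw [hq1, hψ]
    exact h
  exact h1.geometrically_connectedSpace _ _ _ hq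

theorem isIntegral (s : T) (hs : MoreMor.nGeomConnComp p s = 1)
    {K : Type u} [Field K] (y : Spec (CommRingCat.of K) ⟶ T) {Z : Scheme.{u}} {a : Z ⟶ C}
    {q : Z ⟶ Spec (CommRingCat.of K)} (h : IsPullback a q p y) : IsIntegral Z := by
  have : Smooth q := MorphismProperty.of_isPullback h inferInstance
  have := connectedSpace p s hs y h
  exact Groth.Agent.Pi1.H382.Trait.isIntegral_of_smooth q

theorem geometricallyIrreducible (s : T) (hs : MoreMor.nGeomConnComp p s = 1) :
    GeometricallyIrreducible p :=
  ⟨fun K _ y Z fst snd hZ => by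
    have : IsIntegral Z := isIntegral p s hs y hZ
    infer_instance⟩

end Geometry

/-- Every point of a scheme is the image of a geometric point. -/
theorem exists_geometric_point (T : Scheme.{u}) (s : T) :
    ∃ (Ω : Type u) (_ : Field Ω) (_ : IsAlgClosed Ω) (t : Spec (CommRingCat.of Ω) ⟶ T),
      t (IsLocalRing.closedPoint Ω) = s := by
  refine ⟨AlgebraicClosure (T.residueField s), inferInstance, inferInstance,
    Spec.map (CommRingCat.ofHom (algebraMap (T.residueField s) (AlgebraicClosure (T.residueField s)))) ≫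
      T.fromSpecResidueField s, ?_⟩
  have h : (Spec.map (CommRingCat.ofHom (algebraMap (T.residueField s) (AlgebraicClosure (T.residueField s)))) ≫
      T.fromSpecResidueField s) (IsLocalRing.closedPoint _) ∈ Set.range (T.fromSpecResidueField s) :=
    ⟨_, rfl⟩
  rw [Scheme.range_fromSpecResidueField] at h
  exact h

section Genus

theorem specMap_closedPoint {R K : Type u} [CommRing R] [Field K] (φ : R →+* K) :
    (Spec.map (CommRingCat.ofHom φ)) (IsLocalRing.closedPoint K) = (⟨RingHom.ker φ, RingHom.ker_isPrime φ⟩ :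
      PrimeSpectrum R) := by
  refine PrimeSpectrum.ext ?_
  change Ideal.comap φ (IsLocalRing.maximalIdeal K) = RingHom.ker φ
  rw [IsLocalRing.maximalIdeal_eq_bot]
  rfl

variable {R : Type u} [CommRing R] [PreconnectedSpace (PrimeSpectrum R)] {X : Scheme.{u}}
  (p : X ⟶ Spec (CommRingCat.of R)) [Smooth p] [IsProper p]

/-- `h¹` of the fibres is constant. -/
theorem hRank_one_eq (hdim : ∀ s, topologicalKrullDim ↥(p.fiber s) ≤ 1)
    (h0 : ∀ s : Spec (CommRingCat.of R), Models.hRank ↥((Spec (CommRingCat.of R)).residueField s) (p.fiber s)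
      (p.fiberToSpecResidueField s) (Coh.structureModule (p.fiber s)) 0 = 1) (s t : Spec (CommRingCat.of R)) :
    Models.hRank ↥((Spec (CommRingCat.of R)).residueField s) (p.fiber s)
      (p.fiberToSpecResidueField s) (Coh.structureModule (p.fiber s)) 1 =
    Models.hRank ↥((Spec (CommRingCat.of R)).residueField t) (p.fiber t)
      (p.fiberToSpecResidueField t) (Coh.structureModule (p.fiber t)) 1 := by
  let iO : X.Over (Spec (CommRingCat.of R)) := ⟨p⟩
  have ip : IsProper (X ↘ Spec (CommRingCat.of R)) := inferInstanceAs (IsProper p)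
  have ifl : Flat (X ↘ Spec (CommRingCat.of R)) := inferInstanceAs (Flat p)
  have ifp : LocallyOfFinitePresentation (X ↘ Spec (CommRingCat.of R)) :=
    inferInstanceAs (LocallyOfFinitePresentation p)
  have hfib : NodalHOne.FibHyp R X := by
    intro m _ Y _ j H
    let _ : Field (R ⧸ m) := Ideal.Quotient.field m
    exact K898.FamR1.cohomology_field p hdim h0 (R ⧸ m) Y _ _ H
  obtain ⟨⟨m1, m2⟩, -⟩ := NodalHOne.of_fibHyp R X hfib
  have key : ∀ x : Spec (CommRingCat.of R), Module.rankAtStalk (R := R) (Coh.HH X (Coh.structureModule X) 1) x =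
      Models.hRank ↥((Spec (CommRingCat.of R)).residueField x) (p.fiber x)
        (p.fiberToSpecResidueField x) (Coh.structureModule (p.fiber x)) 1 := by
    intro x
    have hx : (Spec.map (CommRingCat.ofHom (algebraMap R x.asIdeal.ResidueField)))
        (IsLocalRing.closedPoint x.asIdeal.ResidueField) = x := by
      rw [specMap_closedPoint]
      exact PrimeSpectrum.ext (Ideal.ker_algebraMap_residueField x.asIdeal)
    have e := K898.BaseH1.rankAtStalk_HH R X hfib x
    have e' := K898.FamH0.hRank_of_point (f := p)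
      (Spec.map (CommRingCat.ofHom (algebraMap R x.asIdeal.ResidueField))) (IsPullback.of_hasPullback _ _) 1
    rw [hx] at e'
    exact e.trans e'
  have f3 : Module.Flat R (Coh.HH X (Coh.structureModule X) 1) := @Module.Flat.of_projective R _ _ _ _ m2
  have f4 : Module.FinitePresentation R (Coh.HH X (Coh.structureModule X) 1) :=
    Module.finitePresentation_of_projective _ _
  rw [← key s, ← key t]
  exact (Module.isLocallyConstant_rankAtStalk (R := R)
    (M := Coh.HH X (Coh.structureModule X) 1)).apply_eq_of_isPreconnected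
    (PreconnectedSpace.isPreconnected_univ) (Set.mem_univ s) (Set.mem_univ t)

end Genus

theorem isCurveOfGenus {R : Type u} [CommRing R] [PreconnectedSpace (PrimeSpectrum R)] {k : Type u} [Field k]
    [IsAlgClosed k] (ρ : R →+* k) {𝒳 : Scheme.{u}} (Q : 𝒳 ⟶ Spec (CommRingCat.of R)) [Smooth Q] [IsProper Q]
    {X : Scheme.{u}} {q : X ⟶ Spec (CommRingCat.of k)} {i : X ⟶ 𝒳}
    (sq : IsPullback i q Q (Spec.map (CommRingCat.ofHom ρ))) (g : ℕ) (hq : ModFun.IsCurveOfGenus g q) :
    ModFun.IsCurveOfGenus g Q := by
  have iT : PreconnectedSpace (Spec (CommRingCat.of R)) := ‹PreconnectedSpace (PrimeSpectrum R)›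
  let s0 : Spec (CommRingCat.of R) := (Spec.map (CommRingCat.ofHom ρ)) (IsLocalRing.closedPoint k)
  have hself := hq.2.2.2 k (𝟙 _) X (𝟙 _) q (IsPullback.of_horiz_isIso ⟨by simp⟩)
  have hdim : ∀ s, topologicalKrullDim ↥(Q.fiber s) = 1 := fun s =>
    (dim_eq Q s s0).trans ((Flat2G.ProperDim.topologicalKrullDim_field_point Q (Field.toIsField k) q i
      (Spec.map (CommRingCat.ofHom ρ)) sq (IsLocalRing.closedPoint k)).symm.trans hself.1)
  have hgi : GeometricallyIrreducible q := hq.2.2.1
  have hgc : GeometricallyConnected (q.fiberToSpecResidueField (IsLocalRing.closedPoint k)) :=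
    ⟨fun K _ y Z fst snd hZ => by
      have h1 : IsPullback (q.fiberι (IsLocalRing.closedPoint k))
          (q.fiberToSpecResidueField (IsLocalRing.closedPoint k)) q
          ((Spec (CommRingCat.of k)).fromSpecResidueField (IsLocalRing.closedPoint k)) :=
        IsPullback.of_hasPullback _ _
      have h2 : IrreducibleSpace Z := hgi.geometrically_irreducibleSpace _ _ _ (hZ.paste_horiz h1)
      infer_instance⟩
  have hn0 : MoreMor.nGeomConnComp Q s0 = 1 := by
    rw [← Groth.Agent.S1335.result Q q i (Spec.map (CommRingCat.ofHom ρ)) sq (IsLocalRing.closedPoint k)]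
    exact Groth.Agent.Ega43.GeomFibre.nGeomConnComp_eq_one q _ hgc
  have hirr := geometricallyIrreducible Q s0 hn0
  have h0 : ∀ s : Spec (CommRingCat.of R), Models.hRank ↥((Spec (CommRingCat.of R)).residueField s) (Q.fiber s)
      (Q.fiberToSpecResidueField s) (Coh.structureModule (Q.fiber s)) 0 = 1 := by
    intro s
    obtain ⟨Ω, _, _, t, rfl⟩ := exists_geometric_point _ s
    rw [← K898.FamH0.hRank_of_point t (IsPullback.of_hasPullback Q t) 0]
    have h1 : IsIntegral (pullback Q t) := isIntegral Q s0 hn0 t (IsPullback.of_hasPullback Q t)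
    let i1 : (pullback Q t).Over (Spec (CommRingCat.of Ω)) := ⟨pullback.snd Q t⟩
    have h2 : IsProper (pullback Q t ↘ Spec (CommRingCat.of Ω)) := inferInstanceAs (IsProper (pullback.snd Q t))
    exact Groth.Agent.Models.H74.CohSide.finrank_HH_zero_eq_one Ω
  refine ⟨‹_›, ‹_›, hirr, fun Ω _ _ t Y j r h => ⟨?_, ?_⟩⟩
  · rw [Flat2G.ProperDim.topologicalKrullDim_field_point Q (Field.toIsField Ω) r j t h (IsLocalRing.closedPoint Ω)]
    exact hdim _
  · change Models.hRank Ω Y r (Coh.structureModule Y) 1 = g
    rw [K898.FamH0.hRank_of_point t h 1, hRank_one_eq Q (fun s => (hdim s).le) h0 _ s0,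
      ← K898.FamH0.hRank_of_point (Spec.map (CommRingCat.ofHom ρ)) sq 1]
    exact hself.2

end K603.Fam

namespace K603.Hurw

/-- (FAM), job 196. -/
theorem fam : K760.Hurw.FamStmt.{u} := by
  intro R _ _ _ k _ _ ρ 𝒳 Q _ _ X q i sq g hq
  exact K603.Fam.isCurveOfGenus ρ Q sq g hq

end K603.Hurw
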