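import Groth.Agent.CurvSt.K760.Iface
import Groth.Agent.Vancyc.H683.YGeoBC
import Groth.Agent.Ega2.H302.ConeFibre

/-!
# Base change of the projective line, compatible with the two standard charts

* `K603.Hurw.p1BC : K760.Hurw.P1BCStmt`.
-/

set_option autoImplicit false

universe u

open CategoryTheory CategoryTheory.Limits AlgebraicGeometry Polynomial
open Groth.Agent.Sga5.ProjSmooth Groth.Agent.CohqB.ProjBC Groth.Agent.Sga4B.P1Hyper

namespace K603.P1BC

variable {A A' : Type u} [CommRing A] [CommRing A'] (φ : A →+* A')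

theorem w_map : (w A').comp (MvPolynomial.map φ) = (Polynomial.mapRingHom φ).comp (w A) := by
  apply MvPolynomial.ringHom_ext
  · intro r
    simp [w]
  · intro i
    simp [w]

/-- the chart `i` of the projective line, with the variable `Polynomial.X` -/
noncomputable def vi (R : Type u) [CommRing R] (i : Fin 2) :
    Spec (CommRingCat.of R[X]) ⟶ CohB1.ProjSpace 1 R :=
  Spec.map (CommRingCat.ofHom (w R)) ≫ chart 1 R i

theorem vi_toSpec (R : Type u) [CommRing R] (i : Fin 2) : vi R i ≫ CohB1.ProjSpace.toSpec 1 R =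
    Spec.map (CommRingCat.ofHom (Polynomial.C : R →+* R[X])) := by
  rw [vi, Category.assoc, chart_toSpec, ← Spec.map_comp, ← CommRingCat.ofHom_comp]
  congr 2
  ext r
  simp [w]

theorem vi_pmap (i : Fin 2) :
    vi A' i ≫ pmap φ 1 = Spec.map (CommRingCat.ofHom (Polynomial.mapRingHom φ)) ≫ vi A i := by
  rw [vi, vi, Category.assoc, Groth.Agent.Vancyc.H683.YGeoBC.chart_pmap, ← Spec.map_comp_assoc,
    ← Spec.map_comp_assoc, ← CommRingCat.ofHom_comp, ← CommRingCat.ofHom_comp, w_map]

theorem isPullback_vi (i : Fin 2) :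
    IsPullback (Spec.map (CommRingCat.ofHom (Polynomial.mapRingHom φ))) (vi A' i) (vi A i) (pmap φ 1) := by
  have h1 : IsPullback (pmap φ 1) (CohB1.ProjSpace.toSpec 1 A') (CohB1.ProjSpace.toSpec 1 A)
    (Spec.map (CommRingCat.ofHom φ)) := isPullback_pmap φ 1
  have h2 : IsPullback (Spec.map (CommRingCat.ofHom (Polynomial.mapRingHom φ)))
      (vi A' i ≫ CohB1.ProjSpace.toSpec 1 A') (vi A i ≫ CohB1.ProjSpace.toSpec 1 A)
      (Spec.map (CommRingCat.ofHom φ)) := by
    rw [vi_toSpec, vi_toSpec]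
    exact isPullback_SpecMap_of_isPushout _ _ _ _ (Groth.Agent.Ega2.H302.ConeFibre.isPushout_polynomial φ)
  exact IsPullback.of_bot h2 (vi_pmap φ i).symm h1

end K603.P1BC

namespace K603.Hurw

/-- job 188 -/
theorem p1BC : K760.Hurw.P1BCStmt.{u} := fun _ _ _ _ φ =>
  ⟨pmap φ 1, isPullback_pmap φ 1, K603.P1BC.isPullback_vi φ 0, K603.P1BC.isPullback_vi φ 1⟩

end K603.Hurw
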